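import Cfsg.Agent.Fi23Spider.CB.Main
import Cfsg.Agent.CosetCert.Member

/-! Generated: the word lies in the subgroup. -/

namespace Cfsg.Agent.Fi23Spider.CB

open Cfsg.Agent.CosetCert

/-- The word. -/
def word : List (Fin 9 × Bool) := [(4, true), (1, true), (6, true), (0, true), (8, true), (2, true), (7, true), (5, true), (1, true), (6, true), (0, true), (8, true), (2, true), (7, true), (5, true), (1, true), (6, true), (0, true), (8, true), (2, true), (7, true), (5, true), (1, true), (6, true), (0, true), (8, true), (2, true), (7, true), (5, true), (1, true), (6, true), (0, true), (8, true), (2, true), (7, true), (5, true), (1, true), (6, true), (0, true), (8, true), (2, true), (7, true), (5, true), (1, true), (6, true), (0, true), (8, true), (2, true), (7, true), (5, true), (1, true), (6, true), (0, true), (8, true), (2, true), (7, true), (5, true), (1, true), (6, true), (0, true), (8, true), (2, true), (7, true), (5, true), (4, true)]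

theorem member : PresentedGroup.mk (wordRels relWords) (FreeGroup.mk word) ∈
    Data.sub (wordRels relWords) (subLetters.map FreeGroup.of) :=
  Data.mem_sub_of_path mem_valid spells word 65 0x100c80000003000014000070000240000f0000640328400ca20032800000a40003700013c0331200cc500331600cd58000a10003840345600d1480014500d780036ec01f850036e900d794035110003c0033dc0002a80007800cc74032e700caf0032be0000b8000220000580324100c8f00323a0000280322c00c8900000600c8500321e00c8580321c00c8800000400c8480320600c8400320800c8380000200c7f00320400c7e00320200c7e800000 (by decide +kernel)

end Cfsg.Agent.Fi23Spider.CB
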